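import Cfsg.Agent.Lib.CosetEnum.Defs

/-! Generated table data. -/

set_option autoImplicit false
set_option maxRecDepth 20000

namespace Cfsg.Lib.CosetEnum.HeSub_adefg

/-- Table data. -/
def tabC_0_0 : Tab :=
  (.node 4 (.node 2 (.node 1 (.leaf 0x40000000000000010) (.leaf 0x40000000000000011)) (.node 1 (.leaf 0x40000000000000012) (.leaf 0x40000000000000013))) (.node 2 (.node 1 (.leaf 0x1000000000010000000000100000000005) (.leaf 0x1000000000020000000000100000000006)) (.node 1 (.leaf 0x1000000000030000000000100000000007) (.leaf 0x1000000000040000000000100000000008))))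

/-- Table data. -/
def tabC_0 : Tab :=
  tabC_0_0

end Cfsg.Lib.CosetEnum.HeSub_adefg
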